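import Groth.Agent.Fixpt.H910.Trace

/-!
# Local terms of the unit object

For correspondence functors `S, S' : a ⟶ b`, `R : b ⟶ a` and `tr : R (S' one) ⟶ one` whose component at
`z : R.Z x y` is `n` times the projection: the local action of `R (S one) = R one = R (S' one) ⟶ one` is the
multiplication by `n`.
-/

set_option autoImplicit false
universe v w p

open CategoryTheory CategoryTheory.Limits

namespace Groth.Agent.Fixpt.H136.LocCore

open Groth.Agent.Fixpt.H910.Core Groth.Agent.Fixpt.H910.Trace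

variable {Λ : Type w} [Field Λ]
variable {C : Type v} [Category.{w} C] [Abelian C] [Linear Λ C]
  {D : Type v} [Category.{w} D] [Abelian D] [Linear Λ D]
  {a : Fib.{v, w, p} Λ C} {b : Fib.{v, w, p} Λ D}

theorem ι_sum (T : TFun a b) {y : b.P} {x : a.P} (z : T.Z y x) (L : C) {M : ModuleCat.{w} Λ}
    [Fintype (Σ x, T.Z y x)] (t : (b.s y).obj (T.F.obj L) ⟶ M) (n : (Σ x, T.Z y x) → ℕ)
    (r : ∀ i : Σ x, T.Z y x, (a.s i.1).obj L ⟶ M)
    (h : t = ∑ i : Σ x, T.Z y x, n i • ((T.proj i.2).app L ≫ r i)) :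
    (T.ι z).app L ≫ t = n ⟨x, z⟩ • r ⟨x, z⟩ := by
  classical
  rw [h, Preadditive.comp_sum]
  refine (Finset.sum_eq_single (⟨x, z⟩ : Σ x, T.Z y x) ?_ ?_).trans ?_
  · rintro ⟨x', z'⟩ _ hne
    have h1 := T.ι_proj_ne z z' (fun e => hne e.symm) L
    rw [Preadditive.comp_nsmul, reassoc_of% h1, zero_comp, smul_zero]
  · intro h'
    exact absurd (Finset.mem_univ _) h'
  · have h1 := T.ι_proj_same z L
    rw [Preadditive.comp_nsmul, reassoc_of% h1]

section

variable (S S' : TFun a b) (R : TFun b a) (e : S.F.obj a.one ⟶ b.one) (he : e ≫ S.ε = 𝟙 _)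
  (tr : R.F.obj (S'.F.obj a.one) ⟶ a.one) (w : (S.comp R).F.obj a.one ⟶ a.one)
  (hw : w = R.F.map (e ≫ S'.ε) ≫ tr)

theorem ε_proj {x : a.P} {y : b.P} (z₁ : S.Z y x) (z' : S'.Z y x) :
    (b.s y).map S'.ε ≫ (S'.proj z').app a.one = (b.s y).map S.ε ≫ (S.proj z₁).app a.one := by
  rw [← cancel_mono (a.u x).hom, Category.assoc, Category.assoc, S'.hu z', S.hu z₁]

include he hw in
theorem ι_w {x : a.P} {y : b.P} (z : R.Z x y) (z₁ : S.Z y x) (z' : S'.Z y x) (n : ℕ)
    (h : (R.ι z).app (S'.F.obj a.one) ≫ (a.s x).map tr = n • (S'.proj z').app a.one) :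
    ((S.comp R).ι (x := x) (y := x) ⟨y, z, z₁⟩).app a.one ≫ (a.s x).map w = n • 𝟙 _ := by
  have h1 := TFun.comp_ι S R z z₁ a.one
  have h2 : (a.s x).map w = (a.s x).map (R.F.map (e ≫ S'.ε)) ≫ (a.s x).map tr := by
    rw [hw]
    exact (a.s x).map_comp _ _
  have h3 : (b.s y).map (e ≫ S'.ε) ≫ (R.ι z).app (S'.F.obj a.one) =
      (R.ι z).app (S.F.obj a.one) ≫ (a.s x).map (R.F.map (e ≫ S'.ε)) := (R.ι z).naturality (e ≫ S'.ε)
  have h4 : (b.s y).map (e ≫ S'.ε) ≫ (S'.proj z').app a.one = (S.proj z₁).app a.one := by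
    rw [Functor.map_comp, Category.assoc, ε_proj S S' z₁ z', ← Functor.map_comp_assoc, he,
      CategoryTheory.Functor.map_id, Category.id_comp]
  have h5 := S.ι_proj_same z₁ a.one
  have h6 : ((S.comp R).ι (x := x) (y := x) ⟨y, z, z₁⟩).app a.one ≫ (a.s x).map w =
      ((S.ι z₁).app a.one ≫ (R.ι z).app (S.F.obj a.one)) ≫
        ((a.s x).map (R.F.map (e ≫ S'.ε)) ≫ (a.s x).map tr) := by
    refine congrArg₂ (· ≫ ·) h1 h2
  rw [h6, Category.assoc, ← Category.assoc ((R.ι z).app (S.F.obj a.one)), ← h3, Category.assoc, h,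
    Preadditive.comp_nsmul, h4, Preadditive.comp_nsmul, h5]

include he hw in
/-- **the local action** -/
theorem lact_w {x : a.P} {y : b.P} (z : R.Z x y) (z₁ : S.Z y x) (z' : S'.Z y x) (n : ℕ)
    (h : (R.ι z).app (S'.F.obj a.one) ≫ (a.s x).map tr = n • (S'.proj z').app a.one) :
    lact (S.comp R) w (x := x) ⟨y, z, z₁⟩ = n • LinearMap.id := by
  have h1 := congrArg (fun φ => φ.hom) (ι_w S S' R e he tr w hw z z₁ z' n h)
  exact h1

end

/-- the trace of the multiplication by `n` on a fibre of the unit -/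
theorem trace_nsmul_id (a : Fib.{v, w, p} Λ C) (x : a.P) (n : ℕ) :
    LinearMap.trace Λ ((a.s x).obj a.one) (n • LinearMap.id) = (n : Λ) := by
  have e : ((a.s x).obj a.one) ≃ₗ[Λ] Λ := (a.u x).toLinearEquiv
  have h1 : Module.finrank Λ ((a.s x).obj a.one) = 1 := by
    rw [e.finrank_eq]
    exact Module.finrank_self Λ
  have := Module.Finite.equiv e.symm
  have h2 : LinearMap.trace Λ ((a.s x).obj a.one) LinearMap.id = 1 := by
    have h3 := LinearMap.trace_one Λ ((a.s x).obj a.one)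
    rw [h1, Nat.cast_one] at h3
    exact h3
  rw [map_nsmul, h2, nsmul_eq_mul, mul_one]

end Groth.Agent.Fixpt.H136.LocCore
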